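import Mathlib
/-!
# A pencil of generators keeps the base separably closed
-/

set_option autoImplicit false
set_option linter.style.haveILetI false
set_option maxHeartbeats 400000
universe u

namespace GrothLib.SepPencil
open IntermediateField
variable {L M Ω : Type u} [Field L] [Field M] [Field Ω] [Algebra L M] [Algebra M Ω] [Algebra L Ω] [IsScalarTower L M Ω]

open scoped IntermediateField.algebraAdjoinAdjoin in
theorem mem_adjoin_algebraicClosure {ι : Type*} (y : ι → Ω) (hy : AlgebraicIndependent M y) {α : Ω}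
    (hM : α ∈ adjoin M (Set.range y)) (halg : IsAlgebraic (adjoin L (Set.range y)) α) :
    α ∈ adjoin L (algebraMap M Ω '' (algebraicClosure L M : Set M) ∪ Set.range y) := by
  obtain ⟨p, q, rfl⟩ := (mem_adjoin_range_iff M y α).1 hM
  let R := MvPolynomial ι L
  let S := MvPolynomial ι M
  letI : Algebra R S := MvPolynomial.algebraMvPolynomial
  letI : Algebra S Ω := (MvPolynomial.aeval y : S →ₐ[M] Ω).toRingHom.toAlgebra
  letI : Algebra R Ω := (MvPolynomial.aeval y : R →ₐ[L] Ω).toRingHom.toAlgebra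
  haveI : IsScalarTower R S Ω := IsScalarTower.of_algebraMap_eq fun r =>
    (MvPolynomial.aeval_map_algebraMap M y r).symm
  have hinj : Function.Injective (algebraMap S Ω) := hy
  let f : R →+* Algebra.adjoin L (Set.range y) :=
    (MvPolynomial.aeval (fun i => (⟨y i, Algebra.subset_adjoin ⟨i, rfl⟩⟩ : Algebra.adjoin L (Set.range y)))).toRingHom
  have hfval : ∀ r : R, (f r : Ω) = algebraMap R Ω r := fun r =>
    MvPolynomial.comp_aeval_apply (f := fun i => (⟨y i, Algebra.subset_adjoin ⟨i, rfl⟩⟩ : Algebra.adjoin L (Set.range y)))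
      (Algebra.adjoin L (Set.range y)).val r
  have hf : Function.Surjective f := by
    intro a
    obtain ⟨r, hr⟩ := (SetLike.ext_iff.1 (Algebra.adjoin_range_eq_range_aeval L y) (a : Ω)).1 a.2
    exact ⟨r, Subtype.ext ((hfval r).trans hr)⟩
  set α := MvPolynomial.aeval y p / MvPolynomial.aeval y q with hα
  have halgR : IsAlgebraic R α :=
    IsAlgebraic.of_ringHom_of_comp_eq (halg.restrictScalars (Algebra.adjoin L (Set.range y))) (f := f)
      (g := RingHom.id Ω) hf Function.injective_id (RingHom.ext fun r => hfval r)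
  obtain ⟨r, hr0, hint⟩ := halgR.exists_integral_multiple
  let φ : FractionRing S →ₐ[S] Ω := IsFractionRing.liftAlgHom (g := Algebra.ofId S Ω) hinj
  let β : FractionRing S := algebraMap S _ (algebraMap R S r * p) / algebraMap S _ q
  have hβ : φ β = r • α := by
    rw [map_div₀, φ.commutes, φ.commutes, map_mul, ← IsScalarTower.algebraMap_apply, Algebra.smul_def, hα,
      mul_div_assoc]
    rfl
  have hβi : IsIntegral S β := (isIntegral_algHom_iff φ φ.toRingHom.injective).1 (hβ ▸ hint.tower_top)
  obtain ⟨s, hs⟩ := IsIntegrallyClosed.isIntegral_iff.1 hβi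
  have hsval : MvPolynomial.aeval y s = r • α := by rw [← hβ, ← hs, φ.commutes]; rfl
  have hsint : IsIntegral R s :=
    (isIntegral_algHom_iff (IsScalarTower.toAlgHom R S Ω) hinj).1 (by
      show IsIntegral R (MvPolynomial.aeval y s)
      rw [hsval]; exact hint)
  have hco : ∀ n, IsIntegral L (s.coeff n) := MvPolynomial.isIntegral_iff_isIntegral_coeff.1 hsint
  set T := adjoin L (algebraMap M Ω '' (algebraicClosure L M : Set M) ∪ Set.range y)
  have hyT : ∀ i, y i ∈ T := fun i => subset_adjoin L _ (Or.inr ⟨i, rfl⟩)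
  have hsT : MvPolynomial.aeval y s ∈ T := by
    rw [MvPolynomial.aeval_def, MvPolynomial.eval₂_eq]
    exact sum_mem fun n _ => mul_mem
      (subset_adjoin L _ (Or.inl ⟨_, (hco n).isAlgebraic |> mem_algebraicClosure_iff.2, rfl⟩))
      (prod_mem fun i _ => pow_mem (hyT i) _)
  have hrT : algebraMap R Ω r ∈ T := by
    show MvPolynomial.aeval y r ∈ T
    rw [MvPolynomial.aeval_def, MvPolynomial.eval₂_eq]
    exact sum_mem fun n _ => mul_mem (T.algebraMap_mem _) (prod_mem fun i _ => pow_mem (hyT i) _)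
  have hr' : algebraMap R Ω r ≠ 0 := by
    rw [IsScalarTower.algebraMap_apply R S Ω]
    exact (map_ne_zero_iff _ hinj).2 ((map_ne_zero_iff _ (MvPolynomial.map_injective _ (algebraMap L M).injective)).2 hr0)
  have : α = MvPolynomial.aeval y s / algebraMap R Ω r := by
    rw [hsval, Algebra.smul_def, mul_div_cancel_left₀ _ hr']
  rw [this]
  exact div_mem hsT hrT

theorem sep_transfer {E E' W : Type u} [Field E] [Field E'] [Field W] [Algebra E W] [Algebra E' W] (σ : W →+* W)
    (h : ∀ e : E, σ (algebraMap E W e) ∈ Set.range (algebraMap E' W)) {a : W} (ha : IsSeparable E a) :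
    IsSeparable E' (σ a) := by
  obtain ⟨Q, hQ⟩ := (Polynomial.mem_lifts _).1 <| (Polynomial.lifts_iff_coeff_lifts
    (f := algebraMap E' W) ((minpoly E a).map (σ.comp (algebraMap E W)))).2 fun n => by
      rw [Polynomial.coeff_map]; exact h _
  have hsep : Q.Separable := by
    rw [← Polynomial.separable_map (algebraMap E' W), hQ]
    exact Polynomial.Separable.map ha
  refine hsep.of_dvd (minpoly.dvd E' _ ?_)
  rw [← Polynomial.eval_map_algebraMap, hQ, ← Polynomial.map_map, Polynomial.eval_map_apply,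
    Polynomial.eval_map_algebraMap, minpoly.aeval, map_zero]

theorem alg_transfer {E E' W : Type u} [Field E] [Field E'] [Field W] [Algebra E W] [Algebra E' W] (σ : W →+* W)
    (h : ∀ e : E, σ (algebraMap E W e) ∈ Set.range (algebraMap E' W)) {a : W} (ha : IsAlgebraic E a) :
    IsAlgebraic E' (σ a) := by
  obtain ⟨Q, hQ⟩ := (Polynomial.mem_lifts _).1 <| (Polynomial.lifts_iff_coeff_lifts
    (f := algebraMap E' W) ((minpoly E a).map (σ.comp (algebraMap E W)))).2 fun n => by
      rw [Polynomial.coeff_map]; exact h _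
  refine ⟨Q, fun h0 => ?_, ?_⟩
  · rw [h0, Polynomial.map_zero] at hQ
    exact Polynomial.map_ne_zero (minpoly.ne_zero ha.isIntegral) hQ.symm
  rw [← Polynomial.eval_map_algebraMap, hQ, ← Polynomial.map_map, Polynomial.eval_map_apply,
    Polynomial.eval_map_algebraMap, minpoly.aeval, map_zero]

theorem map_adjoin_le {A B W : Type u} [Field A] [Field B] [Field W] [Algebra A W] [Algebra B W] (σ : W →+* W)
    {S : Set W} (T : IntermediateField B W) (hA : ∀ a, σ (algebraMap A W a) ∈ T) (hS : ∀ z ∈ S, σ z ∈ T)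
    {z : W} (hz : z ∈ adjoin A S) : σ z ∈ T := by
  induction hz using adjoin_induction with
  | mem z hz => exact hS z hz
  | algebraMap a => exact hA a
  | add _ _ _ _ ha hb => rw [map_add]; exact add_mem ha hb
  | inv _ _ ha => rw [map_inv₀]; exact inv_mem ha
  | mul _ _ _ _ ha hb => rw [map_mul]; exact mul_mem ha hb

theorem core {k W : Type u} [Field k] [Field W] [Algebra k W] (L : IntermediateField k W) (ξ η : W)
    (s : ℕ → W) (hs : ∀ n, s n ∈ L) (hsinj : Function.Injective s)
    (τ : ℕ → (W ≃ₐ[k] W)) (hτ : ∀ n, ∀ a ∈ L, τ n a ∈ L ∧ (τ n).symm a ∈ L)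
    (hξ : ∀ n, τ n ξ = ξ + s n * η) (hη : ∀ n, τ n η = η)
    (hB : ∀ a, IsAlgebraic L a → a ∈ perfectClosure L W)
    (hfin : FiniteDimensional (adjoin L ({ξ, η} : Set W)) (separableClosure (adjoin L ({ξ, η} : Set W)) W))
    (hind : Transcendental (adjoin L ({ξ} : Set W)) η)
    {α : W} (hα : IsSeparable (adjoin L ({ξ} : Set W)) α) : α ∈ adjoin L ({ξ} : Set W) := by
  let u : ℕ → W := fun n => ξ + s n * η
  let F : ℕ → IntermediateField L W := fun n => adjoin L {u n}
  set F0 : IntermediateField L W := adjoin L {ξ}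
  set G : IntermediateField L W := adjoin L {ξ, η}
  have hFG : ∀ n, F n ≤ G := fun n => adjoin_le_iff.2 (Set.singleton_subset_iff.2
    (add_mem (subset_adjoin L _ (Or.inl rfl)) (mul_mem (G.algebraMap_mem ⟨s n, hs n⟩) (subset_adjoin L _ (Or.inr rfl)))))
  have hF : ∀ n, ∀ z ∈ F0, τ n z ∈ F n := fun n z hz =>
    map_adjoin_le ((τ n) : W →+* W) (F n) (fun a : L => (F n).algebraMap_mem ⟨_, (hτ n a a.2).1⟩)
      (fun z hz => by rw [Set.mem_singleton_iff.1 hz]; show τ n ξ ∈ F n; rw [hξ n]; exact mem_adjoin_simple_self L _) hz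
  have hFs : ∀ n, ∀ z ∈ F n, (τ n).symm z ∈ F0 := fun n z hz =>
    map_adjoin_le ((τ n).symm : W →+* W) F0 (fun a : L => F0.algebraMap_mem ⟨_, (hτ n a a.2).2⟩)
      (fun z hz => by
        rw [Set.mem_singleton_iff.1 hz, ← show τ n ξ = u n from hξ n]
        show (τ n).symm (τ n ξ) ∈ F0
        rw [(τ n).symm_apply_apply]; exact mem_adjoin_simple_self L _) hz
  have hsepF : ∀ n, IsSeparable (F n) (τ n α) := fun n =>
    sep_transfer ((τ n) : W →+* W) (fun e : F0 => ⟨⟨_, hF n e e.2⟩, rfl⟩) hα
  have hsepG : ∀ n, τ n α ∈ separableClosure G W := fun n =>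
    mem_separableClosure_iff.2 (sep_transfer (RingHom.id W) (fun e : F n => ⟨⟨_, hFG n e.2⟩, rfl⟩) (hsepF n))
  haveI : Finite (IntermediateField G (separableClosure G W)) :=
    Field.finite_intermediateField_of_exists_primitive_element G _ (Field.exists_primitive_element G _)
  obtain ⟨a, b, hab, heq⟩ := Finite.exists_ne_map_eq_of_infinite
    fun n => adjoin G ({⟨τ n α, hsepG n⟩} : Set (separableClosure G W))
  set Eb : IntermediateField L W := adjoin L {u b}
  let M : IntermediateField L W := (algebraicClosure Eb W).restrictScalars L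
  have htr : Transcendental M (u a) := by
    intro h
    have h1 : IsAlgebraic Eb (u a) := by
      change IsAlgebraic (algebraicClosure Eb W) (u a) at h
      exact h.restrictScalars Eb
    have h2 : IsAlgebraic Eb η := by
      have hne : s a - s b ≠ 0 := sub_ne_zero.2 (hsinj.ne hab)
      have he : η = (u a - u b) * (s a - s b)⁻¹ := by
        simp only [u]; rw [eq_mul_inv_iff_mul_eq₀ hne]; ring
      rw [he]
      exact (h1.sub (isAlgebraic_algebraMap (⟨u b, mem_adjoin_simple_self L _⟩ : Eb))).mul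
        (isAlgebraic_algebraMap (⟨_, inv_mem (sub_mem (Eb.algebraMap_mem ⟨s a, hs a⟩) (Eb.algebraMap_mem ⟨s b, hs b⟩))⟩ : Eb))
    refine hind ?_
    have h3 := alg_transfer ((τ b).symm : W →+* W) (fun e : Eb => (⟨⟨_, hFs b e e.2⟩, rfl⟩ : _ ∈ Set.range (algebraMap F0 W))) h2
    rwa [show ((τ b).symm : W →+* W) η = η from (τ b).injective (((τ b).apply_symm_apply η).trans (hη b).symm)] at h3
  have hbM : τ b α ∈ M := mem_algebraicClosure_iff.2 (hsepF b).isIntegral.isAlgebraic
  have hmem : τ a α ∈ adjoin M (Set.range fun _ : Unit => u a) := by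
    set T := adjoin M (Set.range fun _ : Unit => u a)
    have hM : ∀ z ∈ M, z ∈ T := fun z hz => T.algebraMap_mem ⟨z, hz⟩
    have hu : u a ∈ T := subset_adjoin M _ ⟨(), rfl⟩
    have hub : u b ∈ T := hM _ (mem_algebraicClosure_iff.2 (isAlgebraic_algebraMap (⟨u b, mem_adjoin_simple_self L _⟩ : Eb)))
    have hs' : ∀ n, s n ∈ T := fun n =>
      hM _ (mem_algebraicClosure_iff.2 (isAlgebraic_algebraMap (⟨s n, Eb.algebraMap_mem ⟨s n, hs n⟩⟩ : Eb)))
    have hηT : η ∈ T := by
      have hne : s a - s b ≠ 0 := sub_ne_zero.2 (hsinj.ne hab)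
      rw [show η = (u a - u b) / (s a - s b) by simp only [u]; rw [eq_div_iff hne]; ring]
      exact div_mem (sub_mem hu hub) (sub_mem (hs' a) (hs' b))
    have hξT : ξ ∈ T := by
      rw [show ξ = u a - s a * η by simp [u]]
      exact sub_mem hu (mul_mem (hs' a) hηT)
    have hG : ∀ z ∈ G, z ∈ T := fun z hz => map_adjoin_le (RingHom.id W) T
      (fun l => hM _ (M.algebraMap_mem l))
      (fun z hz => by rcases hz with rfl | rfl; exacts [hξT, hηT]) hz
    have h1 : (⟨τ a α, hsepG a⟩ : separableClosure G W) ∈ adjoin G {⟨τ b α, hsepG b⟩} := by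
      rw [← heq]; exact mem_adjoin_simple_self G _
    have h2 : τ a α ∈ adjoin G ({τ b α} : Set W) := by
      have : τ a α ∈ (adjoin G {(⟨τ b α, hsepG b⟩ : separableClosure G W)}).map (separableClosure G W).val :=
        (IntermediateField.mem_map _).2 ⟨_, h1, rfl⟩
      rwa [adjoin_map, Set.image_singleton] at this
    exact map_adjoin_le (RingHom.id W) T (fun g => hG _ g.2)
      (fun z hz => by rw [Set.mem_singleton_iff.1 hz]; exact hM _ hbM) h2
  have halg : IsAlgebraic (adjoin L (Set.range fun _ : Unit => u a)) (τ a α) := by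
    rw [Set.range_const]
    exact (hsepF a).isIntegral.isAlgebraic
  have hA := mem_adjoin_algebraicClosure (L := L) _ (algebraicIndependent_unique_type_iff.2 htr) hmem halg
  have hP : τ a α ∈ perfectClosure (F a) W := by
    obtain ⟨q, hq⟩ := ExpChar.exists L
    haveI : ExpChar (F a) q := expChar_of_injective_algebraMap (algebraMap L (F a)).injective q
    refine map_adjoin_le (RingHom.id W) (perfectClosure (F a) W)
      (fun l => (perfectClosure (F a) W).algebraMap_mem ⟨_, (F a).algebraMap_mem l⟩) (fun z hz => ?_) hA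
    rcases hz with ⟨z, hz, rfl⟩ | ⟨_, rfl⟩
    · obtain ⟨n, l, hl⟩ := (mem_perfectClosure_iff_pow_mem q).1
        (hB _ ((mem_algebraicClosure_iff.1 hz).algebraMap (A := W)))
      exact (mem_perfectClosure_iff_pow_mem q).2 ⟨n, ⟨_, (F a).algebraMap_mem l⟩, hl⟩
    · exact (perfectClosure (F a) W).algebraMap_mem ⟨_, mem_adjoin_simple_self L _⟩
  have hbot : τ a α ∈ F a := by
    have : separableClosure (F a) W ⊓ perfectClosure (F a) W = ⊥ := separableClosure_inf_perfectClosure (F a) W
    have hm : τ a α ∈ (⊥ : IntermediateField (F a) W) := by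
      rw [← this]; exact ⟨mem_separableClosure_iff.2 (hsepF a), hP⟩
    obtain ⟨e, he⟩ := mem_bot.1 hm
    rw [← he]; exact e.2
  simpa using hFs a _ hbot

end GrothLib.SepPencil
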